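import Cfsg.Agent.KM.Rt2.Defs
import Cfsg.Agent.DL.Gd.Dat

/-!
# Rationality for roots of a Frobenius map: from closed sets to the solution sets (helper2)
-/

set_option autoImplicit false
set_option linter.unusedSectionVars false
set_option maxHeartbeats 400000

namespace Cfsg.Agent.KM.Rt2

open Cfsg Cfsg.Agent.DL Cfsg.Agent.DL.Lef Cfsg.Agent.DL.Cn Cfsg.Agent.DL.Gd Cfsg.Agent.KZ.Lie Cfsg.Agent.KM.Deg
  Cfsg.Agent.LangThm MvPolynomial

section Tau

variable {k : Type} [Field k] {I : Type} {n Q : ℕ}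

theorem ofNat_succ (t : ℕ) : Fin.ofNat (n + 1) t + 1 = Fin.ofNat (n + 1) (t + 1) := by
  apply Fin.ext
  simp [Fin.val_add]

theorem tau_step (w : Fin (n + 1) × I → k) (t : ℕ) (i : I) :
    tau n Q w (Fin.ofNat (n + 1) t, i) ^ Q ^ (t / (n + 1)) =
      w (Fin.ofNat (n + 1) (t + 1), i) ^ Q ^ ((t + 1) / (n + 1)) := by
  have h1 : Fin.ofNat (n + 1) t = Fin.last n ↔ n + 1 ∣ t + 1 := by
    rw [Nat.dvd_iff_mod_eq_zero, Nat.succ_mod_succ_eq_zero_iff, Fin.ext_iff]
    simp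
  simp only [tau, ofNat_succ, h1, Nat.succ_div]
  split_ifs
  · rw [← pow_mul, pow_succ']
  · simp

theorem tau_iter (j : ℕ) (w : Fin (n + 1) × I → k) (t : ℕ) (i : I) :
    (tau n Q)^[j] w (Fin.ofNat (n + 1) t, i) ^ Q ^ (t / (n + 1)) =
      w (Fin.ofNat (n + 1) (t + j), i) ^ Q ^ ((t + j) / (n + 1)) := by
  induction j generalizing w with
  | zero => rfl
  | succ j ih => rw [Function.iterate_succ_apply, ih, tau_step, add_assoc]

theorem tau_iter_mul (m : ℕ) (w : Fin (n + 1) × I → k) (z : Fin (n + 1) × I) :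
    (tau n Q)^[(n + 1) * m] w z = w z ^ Q ^ m := by
  obtain ⟨a, i⟩ := z
  have h := tau_iter (Q := Q) ((n + 1) * m) w a i
  have h1 : Fin.ofNat (n + 1) a = a := Fin.ext (by simp)
  have h2 : Fin.ofNat (n + 1) (a + (n + 1) * m) = a := Fin.ext (by simp [Nat.mod_eq_of_lt a.2])
  rw [h1, h2, Nat.add_mul_div_left _ _ n.succ_pos, Nat.div_eq_of_lt a.2] at h
  simpa using h

theorem finite_fix [Fintype I] (hQ : 1 < Q) {m : ℕ} (hm : 0 < m) :
    {w : Fin (n + 1) × I → k | (tau n Q)^[m] w = w}.Finite := by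
  classical
  refine (Dw.finite_Fix (k := k) (σ := 1) (Nat.one_lt_pow hm.ne' hQ)).subset fun w hw z => ?_
  rw [← tau_iter_mul, mul_comm, Function.iterate_mul, Function.iterate_fixed hw]
  rfl

end Tau

theorem ExpR.congr {R d : ℕ} {a b : ℕ → ℂ} (h : ExpR R d a) (e : ∀ m, 0 < m → m.Coprime d → a m = b m) :
    ExpR R d b := by
  obtain ⟨S, h1, h2⟩ := h
  exact ⟨S, h1, fun m hm hd => by rw [h2 m hm hd, e m hm hd]⟩

theorem ExpR.sub {R d : ℕ} {a b : ℕ → ℂ} (h : ExpR R d a) (h' : ExpR R d b) : ExpR R d fun m => a m - b m := by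
  obtain ⟨S, h1, h2⟩ := h
  obtain ⟨T, h3, h4⟩ := h'
  exact ⟨_, h1.sub h3, fun m hm hd => by rw [h2 m hm hd, h4 m hm hd, mul_sub]⟩

section Con

variable {p : ℕ} [Fact p.Prime] {k : Type} [Field k] [CharP k p] [IsAlgClosed k] {I : Type} [Fintype I] {R n : ℕ}

/-- constructible sets which are stable under the Frobenius map -/
theorem expR_constr (h : RtCoreR R n) (lf : ∀ a : k, ∃ m, 0 < m ∧ a ^ p ^ m = a) {e : ℕ} (he : 0 < e)
    {S : Set (Fin (n + 1) × I → k)} (hS : Constr k S) (hF : ∀ x ∈ S, (fun i => x i ^ p ^ e) ∈ S) :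
    ExpR R (n + 1) fun m => (Nat.card {w // w ∈ S ∧ (tau n (p ^ e))^[m] w = w} : ℂ) := by
  have hq : 1 < p ^ e := Nat.one_lt_pow he.ne' (Fact.out : p.Prime).one_lt
  induction hJ : van S using WellFoundedGT.induction generalizing S with
  | ind J ih =>
    rcases S.eq_empty_or_nonempty with rfl | hne
    · exact ⟨_, expZ_const 0, fun m _ _ => by simp⟩
    have hFc : ∀ x ∈ clo S, (fun i => x i ^ p ^ e) ∈ clo S := fun x hx => by
      simpa using clo_stable (fun i => X i ^ p ^ e) (fun y hy => by simpa using hF y hy) hx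
    have h1 := ih _ (hJ ▸ van_lt hS hne) ((constr_clo S).diff hS)
      (fun x hx => ⟨hFc x hx.1, fun h => hx.2 (mem_of_frob_mem lf hF h)⟩) rfl
    obtain ⟨s, h2, h3, h4⟩ := exists_rational lf he hF
    have h5 := h p k lf e he I s (fun f => f.1) fun f => h3 f.1 f.2
    refine (h5.sub h1).congr fun m hm _ => ?_
    have hfin := finite_fix (k := k) (I := I) (n := n) hq hm
    have h6 : ∀ A : Set (Fin (n + 1) × I → k), Nat.card {w // w ∈ A ∧ (tau n (p ^ e))^[m] w = w} =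
        (A ∩ {w | (tau n (p ^ e))^[m] w = w}).ncard := fun A => rfl
    have h7 : Nat.card {w : Fin (n + 1) × I → k // (∀ j : s, eval w j.1 = 0) ∧ (tau n (p ^ e))^[m] w = w} =
        Nat.card {w // w ∈ clo S ∧ (tau n (p ^ e))^[m] w = w} :=
      Nat.card_congr (Equiv.subtypeEquivRight fun w => and_congr_left fun _ =>
        ⟨fun hw => h4 w fun f hf => hw ⟨f, hf⟩, fun hw f => hw f.1 (h2 f.1 f.2)⟩)
    rw [h7, h6, h6, h6, sub_eq_iff_eq_add, ← Nat.cast_add,
      ← Set.ncard_union_eq _ (hfin.inter_of_right _) (hfin.inter_of_right _),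
      ← Set.union_inter_distrib_right, Set.union_sdiff_cancel (subset_clo S)]
    exact Set.disjoint_left.2 fun x hx hx' => hx'.1.2 hx.1

/-- **A root of a Frobenius map on a constructible set.** -/
theorem expR_root (h : RtCoreR R n) (lf : ∀ a : k, ∃ m, 0 < m ∧ a ^ p ^ m = a) {e : ℕ} (he : 0 < e) {X : Type} (S : Set X)
    (Φ : X → X) (hΦS : ∀ x ∈ S, Φ x ∈ S) (c : X → I → k) (hc : Set.InjOn c S)
    (hΦ : ∀ x ∈ S, ∀ i, c (Φ^[n + 1] x) i = c x i ^ p ^ e)
    (hgr : ∀ j : ℕ, Constr k {z : (I → k) × (I → k) | ∃ x ∈ S, z = (c x, c (Φ^[j] x))}) :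
    ExpR R (n + 1) fun m => (Nat.card {x // x ∈ S ∧ Φ^[m] x = x} : ℂ) := by
  let c' : X → Fin (n + 1) × I → k := fun x z => c (Φ^[z.1] x) z.2
  have hc' : Set.InjOn c' S := fun x hx y hy h => hc hx hy (funext fun i => congrFun h (0, i))
  have hit : ∀ m, ∀ x ∈ S, Φ^[m] x ∈ S := fun m x hx => Set.MapsTo.iterate hΦS m hx
  have hfr : ∀ x ∈ S, c' (Φ x) = tau n (p ^ e) (c' x) := fun x hx => funext fun z => by
    obtain ⟨a, i⟩ := z
    simp only [c', tau, ← Function.iterate_succ_apply, Fin.val_add_one]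
    split_ifs with ha
    · rw [ha, Fin.val_last, hΦ x hx]
      rfl
    · rw [pow_one]
  have hfm : ∀ m, ∀ x ∈ S, c' (Φ^[m] x) = (tau n (p ^ e))^[m] (c' x) := by
    intro m x hx
    induction m with
    | zero => rfl
    | succ m ih => rw [Function.iterate_succ_apply', Function.iterate_succ_apply', hfr _ (hit m x hx), ih]
  have hcon : Constr k (c' '' S) := by
    refine (Constr.forall_fin fun a : Fin (n + 1) => (hgr a).mem
      (f := fun w : Fin (n + 1) × I → k => ((fun i => w (0, i)), fun i => w (a, i)))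
      ((polyMap_pi fun i => polyMap_apply _).prodMk (polyMap_pi fun i => polyMap_apply _))).congr fun w => ?_
    simp only [Set.mem_ofPred_eq, Set.mem_image, Prod.mk.injEq]
    constructor
    · intro h
      obtain ⟨x, hx, e1, -⟩ := h 0
      refine ⟨x, hx, funext fun z => ?_⟩
      obtain ⟨y, hy, e2, e3⟩ := h z.1
      rw [hc hx hy (e1.symm.trans e2)]
      exact (congrFun e3 z.2).symm
    · rintro ⟨x, hx, rfl⟩ a
      exact ⟨x, hx, rfl, rfl⟩
  refine (expR_constr h lf he hcon ?_).congr fun m _ _ => ?_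
  · rintro _ ⟨x, hx, rfl⟩
    refine ⟨Φ^[n + 1] x, hit _ x hx, funext fun z => ?_⟩
    have h1 := tau_iter_mul (Q := p ^ e) 1 (c' x) z
    rw [mul_one, pow_one] at h1
    rw [hfm _ x hx, h1]
  · congr 1
    refine (Nat.card_congr (Equiv.ofBijective (fun x : {x // x ∈ S ∧ Φ^[m] x = x} =>
      (⟨c' x.1, ⟨x.1, x.2.1, rfl⟩, by rw [← hfm m _ x.2.1, x.2.2]⟩ :
        {w // w ∈ c' '' S ∧ (tau n (p ^ e))^[m] w = w})) ⟨?_, ?_⟩)).symm
    · intro x y h
      exact Subtype.ext (hc' x.2.1 y.2.1 (congrArg Subtype.val h))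
    · rintro ⟨_, ⟨x, hx, rfl⟩, h⟩
      exact ⟨⟨x, hx, hc' (hit m x hx) hx (by rw [hfm m x hx, h])⟩, rfl⟩

end Con

section Dat

variable {p : ℕ} [Fact p.Prime] {k : Type} [Field k] [CharP k p] {Y : Type} [Group Y] {N : Type} [Fintype N]
  [DecidableEq N] {ρ : Y →* GL N k} {F : MulAut Y} {G : Subgroup Y} [IsAlgClosed k] {g : ℕ}

/-- the components of a tuple -/
def cp (z : (Fin g → Y × Y) × Y × Y) : (Fin g ⊕ Fin g) ⊕ Bool → Y :=
  Sum.elim (Sum.elim (fun i => (z.1 i).1) fun i => (z.1 i).2) fun b => cond b z.2.1 z.2.2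

theorem cp_inj : Function.Injective (cp (Y := Y) (g := g)) := fun _ _ h =>
  Prod.ext (funext fun i => Prod.ext (congrFun h (.inl (.inl i))) (congrFun h (.inl (.inr i))))
    (Prod.ext (congrFun h (.inr true)) (congrFun h (.inr false)))

theorem cp_surj (y : (Fin g ⊕ Fin g) ⊕ Bool → Y) : ∃ z, cp z = y :=
  ⟨(fun i => (y (.inl (.inl i)), y (.inl (.inr i))), y (.inr true), y (.inr false)), funext fun t => by
    rcases t with (i | i) | (_ | _) <;> rfl⟩

theorem mem_Sol {S : Subgroup Y} {z : (Fin g → Y × Y) × Y × Y} : z ∈ Sol F S g ↔ (∀ t, cp z t ∈ S) ∧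
    ((List.finRange g).map fun i => cp z (.inl (.inl i)) * cp z (.inl (.inr i)) * (cp z (.inl (.inl i)))⁻¹ *
      (cp z (.inl (.inr i)))⁻¹).prod *
      (cp z (.inr true) * F (cp z (.inr false)) * (cp z (.inr true))⁻¹ * (cp z (.inr false))⁻¹) = 1 := by
  rw [← List.ofFn_eq_map]
  refine ⟨fun ⟨h1, h2, h3, h4⟩ => ⟨fun t => ?_, h4⟩, fun ⟨h1, h2⟩ =>
    ⟨fun i => ⟨h1 (.inl (.inl i)), h1 (.inl (.inr i))⟩, h1 (.inr true), h1 (.inr false), h2⟩⟩
  rcases t with (i | i) | (_ | _)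
  exacts [(h1 i).1, (h1 i).2, h3, h2]

/-- the map on tuples -/
def tp (F : MulAut Y) (z : (Fin g → Y × Y) × Y × Y) : (Fin g → Y × Y) × Y × Y :=
  (fun i => (F (z.1 i).1, F (z.1 i).2), F z.2.1, F z.2.2)

theorem cp_tp (z : (Fin g → Y × Y) × Y × Y) (t : (Fin g ⊕ Fin g) ⊕ Bool) : cp (tp F z) t = F (cp z t) := by
  rcases t with (i | i) | (_ | _) <;> rfl

theorem cp_tp_iter (m : ℕ) (z : (Fin g → Y × Y) × Y × Y) (t : (Fin g ⊕ Fin g) ⊕ Bool) :
    cp ((tp F)^[m] z) t = (F ^ m) (cp z t) := by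
  induction m with
  | zero => rfl
  | succ m ih => rw [Function.iterate_succ_apply', cp_tp, ih, pow_succ']; rfl

/-- the coordinates of a tuple -/
def cc (ρ : Y →* GL N k) (z : (Fin g → Y × Y) × Y × Y) (s : ((Fin g ⊕ Fin g) ⊕ Bool) × N × N) : k :=
  rhoM ρ (cp z s.1) s.2.1 s.2.2

/-- the matrices of a coordinate vector -/
def mt {T : Type} (u : T × N × N → k) (t : T) : Matrix N N k := Matrix.of fun i j => u (t, i, j)

theorem mt_cc (z : (Fin g → Y × Y) × Y × Y) (t : (Fin g ⊕ Fin g) ⊕ Bool) : mt (cc ρ z) t = rhoM ρ (cp z t) := rfl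

theorem mt_inj {T : Type} {u v : T × N × N → k} (h : ∀ t, mt u t = mt v t) : u = v :=
  funext fun s => congrFun (congrFun (h s.1) s.2.1) s.2.2

theorem poly_mt {T E : Type} [AddCommGroup E] [Module k E] {f : E → T × N × N → k} (hf : PolyMap k f) (t : T) :
    PolyMap k fun x => mt (f x) t := polyMap_matrix fun _ _ => hf.apply _

theorem constr_sol (D : Datum p ρ F G) : Constr k (cc ρ '' Sol F G g) := by
  let T := (Fin g ⊕ Fin g) ⊕ Bool
  let M := Matrix N N k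
  have hinj := rhoM_injective D.amb.inj
  have a : ∀ t, PolyMap k fun z : (T × N × N → k) × (T → M) × M => mt z.1 t := fun t => poly_mt polyMap_id.fst t
  have b : ∀ t, PolyMap k fun z : (T × N × N → k) × (T → M) × M => z.2.1 t := fun t => polyMap_id.snd.fst.apply t
  have h1 : Constr k {z : (T × N × N → k) × (T → M) × M | (∀ t, mt z.1 t ∈ rhoM ρ '' (G : Set Y)) ∧
      (∀ t, mt z.1 t * z.2.1 t = 1) ∧ (mt z.1 (.inr false), z.2.2) ∈
        (rhoM ρ).prod ((rhoM ρ).comp F.toMonoidHom) '' (G : Set Y) ∧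
      ((List.finRange g).map fun i => mt z.1 (.inl (.inl i)) * mt z.1 (.inl (.inr i)) * z.2.1 (.inl (.inl i)) *
        z.2.1 (.inl (.inr i))).prod * (mt z.1 (.inr true) * z.2.2 * z.2.1 (.inr true) * z.2.1 (.inr false)) = 1} := by
    refine (Constr.forall_fin fun t => Constr.mem (polyOn_rho D).cg_G (a t)).and
      ((Constr.forall_fin fun t => Constr.eq ((a t).mul (b t)) (polyMap_const _)).and
      ((Constr.mem (cg_graph D) ((a _).prodMk polyMap_id.snd.snd)).and (Constr.eq ?_ (polyMap_const _))))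
    exact (PolyMap.list_prod _ fun i _ => (((a _).mul (a _)).mul (b _)).mul (b _)).mul
      ((((a _).mul polyMap_id.snd.snd).mul (b _)).mul (b _))
  refine (h1.image polyMap_id.fst).congr fun u => ?_
  constructor
  · rintro ⟨⟨u, v, B⟩, ⟨h2, h3, ⟨y, -, h4⟩, h5⟩, rfl⟩
    choose x hx hx' using h2
    obtain ⟨z, rfl⟩ := cp_surj x
    obtain rfl : cc ρ z = u := mt_inj hx'
    have h6 : ∀ t, v t = rhoM ρ (cp z t)⁻¹ := fun t => by
      have h7 : rhoM ρ (cp z t) * v t = 1 := h3 t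
      rw [← one_mul (v t), ← map_one (rhoM ρ), ← inv_mul_cancel (cp z t), map_mul, mul_assoc, h7, mul_one]
    obtain rfl : y = cp z (.inr false) := hinj (congrArg Prod.fst h4)
    obtain rfl : rhoM ρ (F (cp z (.inr false))) = B := congrArg Prod.snd h4
    refine ⟨z, mem_Sol.2 ⟨hx, hinj ?_⟩, rfl⟩
    simp only [h6] at h5
    simp only [map_mul, map_list_prod, List.map_map, map_one, Function.comp_def]
    exact h5
  · rintro ⟨z, hz, rfl⟩
    obtain ⟨h2, h3⟩ := mem_Sol.1 hz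
    refine ⟨(cc ρ z, fun t => rhoM ρ (cp z t)⁻¹, rhoM ρ (F (cp z (.inr false)))), ⟨fun t => ⟨_, h2 t, rfl⟩, fun t => ?_,
      ⟨_, h2 (.inr false), rfl⟩, ?_⟩, rfl⟩
    · rw [mt_cc, ← map_mul, mul_inv_cancel, map_one]
    · have h4 := congrArg (rhoM ρ) h3
      simp only [map_mul, map_list_prod, List.map_map, map_one, Function.comp_def] at h4
      exact h4

/-- **The counts of the solutions.** -/
theorem expR_sol {R n e : ℕ} (h : RtCoreR R n) (D : Datum p ρ F G) (he : 0 < e)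
    (hσ : ∀ y, ρ ((F ^ (n + 1)) y) = frob p e (ρ y)) (g : ℕ) :
    ExpR R (n + 1) fun m => (Nat.card (Sol F (GF (F ^ m) G) g) : ℂ) := by
  have hinj := rhoM_injective D.amb.inj
  refine (expR_root h D.amb.lf he (Sol F G g) (tp F) (fun z hz => ?_) (cc ρ)
    (fun x _ y _ h => cp_inj (funext fun t => hinj (by rw [← mt_cc, h, mt_cc]))) (fun z _ s => ?_)
    fun j => ?_).congr fun m _ _ => ?_
  · obtain ⟨h1, h2⟩ := mem_Sol.1 hz
    refine mem_Sol.2 ⟨fun t => cp_tp z t ▸ F_mem_G D (h1 t), ?_⟩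
    have h3 := congrArg F h2
    simp only [map_mul, map_list_prod, List.map_map, map_one, map_inv] at h3
    simpa only [Function.comp_def, map_mul, map_inv, cp_tp] using h3
  · simp only [cc, cp_tp_iter, rhoM_apply, hσ]
    rfl
  · refine ((Constr.mem (constr_sol (g := g) D) polyMap_id.fst).and (Constr.forall_fin fun t =>
      Constr.mem (cg_graph_pow D j) ((poly_mt polyMap_id.fst t).prodMk (poly_mt polyMap_id.snd t)))).congr fun z => ?_
    constructor
    · rintro ⟨⟨x, hx, h1⟩, h2⟩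
      refine ⟨x, hx, Prod.ext h1.symm (mt_inj fun t => ?_)⟩
      obtain ⟨y, -, h3⟩ := h2 t
      have h4 : rhoM ρ y = mt z.1 t := congrArg Prod.fst h3
      rw [← h1, mt_cc] at h4
      rw [mt_cc, cp_tp_iter, ← hinj h4]
      exact (congrArg Prod.snd h3).symm
    · rintro ⟨x, hx, rfl⟩
      exact ⟨⟨x, hx, rfl⟩, fun t => ⟨cp x t, (mem_Sol.1 hx).1 t, Prod.ext rfl (congrArg (rhoM ρ) (cp_tp_iter j x t).symm)⟩⟩
  · congr 1
    refine Nat.card_congr (Equiv.subtypeEquivRight fun z => ?_)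
    rw [mem_Sol, mem_Sol]
    constructor
    · rintro ⟨⟨h1, h2⟩, h3⟩
      exact ⟨fun t => mem_GF.2 ⟨h1 t, by rw [← cp_tp_iter, h3]⟩, h2⟩
    · rintro ⟨h1, h2⟩
      exact ⟨⟨fun t => (h1 t).1, h2⟩, cp_inj (funext fun t => by rw [cp_tp_iter]; exact (h1 t).2)⟩

/-- the hypothesis of the glue, for a given order -/
theorem dwR_of {R n e : ℕ} (hR : R ≠ 0) (h : RtCoreR R n) (D : Datum p ρ F G) (he : 0 < e)
    (hσ : ∀ y, ρ ((F ^ (n + 1)) y) = frob p e (ρ y)) : DwR F G := ⟨R, hR, fun g => by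
  obtain ⟨S, h1, h2⟩ := expR_sol h D he hσ g
  exact ⟨S, n + 1, h1, fun l hl hB => h2 l hl.pos (Nat.coprime_of_lt_prime n.succ_ne_zero hB hl)⟩⟩

theorem dwP_of {n e : ℕ} (h : RtCore n) (D : Datum p ρ F G) (he : 0 < e)
    (hσ : ∀ y, ρ ((F ^ (n + 1)) y) = frob p e (ρ y)) : DwP F G := fun g => by
  obtain ⟨S, h1, h2⟩ := expR_sol h.coreR D he hσ g
  exact ⟨S, n + 1, h1, fun l hl hB => by
    rw [h2 l hl.pos (Nat.coprime_of_lt_prime n.succ_ne_zero hB hl), Nat.cast_one, one_mul]⟩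

/-- every datum -/
theorem dwR_all (h : ∀ n, ∃ R, R ≠ 0 ∧ RtCoreR R n) (D : Datum p ρ F G) : DwR F G := by
  obtain ⟨d, e, hd, he, hσ⟩ := D.amb.frob
  obtain ⟨n, rfl⟩ : ∃ n, d = n + 1 := ⟨d - 1, by omega⟩
  obtain ⟨R, hR, h⟩ := h n
  exact dwR_of hR h D he hσ

end Dat

end Cfsg.Agent.KM.Rt2
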